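import Groth.Agent.SmoothGeneric.Open

/-!
# A smooth form of any degree containing a linear subspace of at most half the dimension
-/

set_option autoImplicit false
set_option linter.style.haveILetI false
set_option backward.isDefEq.respectTransparency false
set_option backward.isDefEq.respectTransparency.types false
set_option maxHeartbeats 1000000

universe u

open MvPolynomial

noncomputable section

namespace Groth.Agent.SmoothGeneric

variable {k : Type u} [Field k]

/-- The coordinate `j`, zero beyond the range. -/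
def Y (n : ℕ) (j : ℕ) : MvPolynomial (Fin (n + 1)) k := if h : j ≤ n then X ⟨j, by omega⟩ else 0

/-- The value of the coordinate `j`. -/
def val {n : ℕ} (v : Fin (n + 1) → k) (j : ℕ) : k := if h : j ≤ n then v ⟨j, by omega⟩ else 0

theorem eval_Y {n : ℕ} (v : Fin (n + 1) → k) (j : ℕ) : eval v (Y n j) = val v j := by
  unfold Y val; split <;> simp

theorem isHomogeneous_Y (n j : ℕ) : (Y (k := k) n j).IsHomogeneous 1 := by
  unfold Y; split
  · exact isHomogeneous_X k _
  · exact isHomogeneous_zero _ _ _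

theorem pderiv_Y {n : ℕ} (i : Fin (n + 1)) (j : ℕ) : pderiv i (Y (k := k) n j) = if j = (i : ℕ) then 1 else 0 := by
  unfold Y
  split
  · rw [pderiv_X]
    by_cases h : j = (i : ℕ)
    · rw [if_pos h, Pi.single_apply, if_pos (Fin.ext h)]
    · rw [if_neg h, Pi.single_apply, if_neg fun e => h (congrArg Fin.val e)]
  · rw [map_zero, if_neg]
    intro h
    have := i.2
    omega

theorem pderiv_Y_pow {n : ℕ} (i : Fin (n + 1)) (j e : ℕ) :
    pderiv i (Y (k := k) n j ^ e) = if j = (i : ℕ) then C (e : k) * Y n j ^ (e - 1) else 0 := by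
  rw [pderiv_pow, pderiv_Y, map_natCast]
  split <;> simp

/-- The chain form. -/
def chain (n d : ℕ) : MvPolynomial (Fin (n + 1)) k :=
  (∑ j ∈ Finset.range n, Y n j ^ (d - 1) * Y n (j + 1)) + Y n n ^ d

/-- The form made of pairs, followed by a Fermat form. -/
def pairs (n m d : ℕ) : MvPolynomial (Fin (n + 1)) k :=
  (∑ j ∈ Finset.range m, (Y n (2 * j) ^ (d - 1) * Y n (2 * j + 1) + Y n (2 * j) * Y n (2 * j + 1) ^ (d - 1))) +
    ∑ j ∈ Finset.Ico (2 * m) (n + 1), Y n j ^ d

theorem isHomogeneous_chain (n : ℕ) {d : ℕ} (hd : 1 ≤ d) : (chain (k := k) n d).IsHomogeneous d := by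
  refine (IsHomogeneous.sum _ _ _ fun j _ => ?_).add ?_
  · have := ((isHomogeneous_Y (k := k) n j).pow (d - 1)).mul (isHomogeneous_Y (k := k) n (j + 1))
    rwa [one_mul, Nat.sub_add_cancel hd] at this
  · simpa using (isHomogeneous_Y (k := k) n n).pow d

theorem isHomogeneous_pairs (n m : ℕ) {d : ℕ} (hd : 1 ≤ d) : (pairs (k := k) n m d).IsHomogeneous d := by
  refine (IsHomogeneous.sum _ _ _ fun j _ => IsHomogeneous.add ?_ ?_).add (IsHomogeneous.sum _ _ _ fun j _ => ?_)
  · have := ((isHomogeneous_Y (k := k) n (2 * j)).pow (d - 1)).mul (isHomogeneous_Y (k := k) n (2 * j + 1))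
    rwa [one_mul, Nat.sub_add_cancel hd] at this
  · have := (isHomogeneous_Y (k := k) n (2 * j)).mul ((isHomogeneous_Y (k := k) n (2 * j + 1)).pow (d - 1))
    rwa [one_mul, Nat.add_sub_cancel' hd] at this
  · simpa using (isHomogeneous_Y (k := k) n j).pow d

/-- The odd coordinates beyond `2 m`, and the last one, cut out the subspace. -/
def OnSub {n : ℕ} (m : ℕ) (v : Fin (n + 1) → k) : Prop :=
  ∀ j, (j % 2 = 1 ∨ 2 * m ≤ j) → val v j = 0

theorem eval_chain_of_onSub {n m d : ℕ} (hd : 2 ≤ d) (hm : 2 * m ≤ n + 1) {v : Fin (n + 1) → k} (h : OnSub m v) :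
    eval v (chain n d) = 0 := by
  simp only [chain, map_add, map_sum, map_mul, map_pow, eval_Y]
  rw [h n (by omega), zero_pow (by omega), add_zero]
  refine Finset.sum_eq_zero fun j _ => ?_
  rcases Nat.mod_two_eq_zero_or_one j with hj | hj
  · rw [h (j + 1) (by omega), mul_zero]
  · rw [h j (by omega), zero_pow (by omega), zero_mul]

theorem eval_pairs_of_onSub {n m d : ℕ} (hd : 2 ≤ d) {v : Fin (n + 1) → k} (h : OnSub m v) :
    eval v (pairs n m d) = 0 := by
  simp only [pairs, map_add, map_sum, map_mul, map_pow, eval_Y]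
  rw [Finset.sum_eq_zero (fun j _ => by rw [h (2 * j + 1) (by omega), zero_pow (by omega), mul_zero, mul_zero, add_zero]),
    Finset.sum_eq_zero (fun j hj => by rw [h j (Or.inr (Finset.mem_Ico.1 hj).1), zero_pow (by omega)]), add_zero]

theorem eq_zero_of_val {n : ℕ} {v : Fin (n + 1) → k} (h : ∀ j ≤ n, val v j = 0) : v = 0 := by
  funext i
  have h1 := h (i : ℕ) (Nat.lt_succ_iff.1 i.2)
  rwa [val, dif_pos (Nat.lt_succ_iff.1 i.2)] at h1

theorem eval_pderiv_chain {n : ℕ} (d : ℕ) (v : Fin (n + 1) → k) (i : Fin (n + 1)) :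
    eval v (pderiv i (chain n d)) =
      (if (i : ℕ) < n then ((d - 1 : ℕ) : k) * val v i ^ (d - 1 - 1) * val v (i + 1) else 0) +
      (if 0 < (i : ℕ) then val v ((i : ℕ) - 1) ^ (d - 1) else 0) +
      (if (i : ℕ) = n then (d : k) * val v n ^ (d - 1) else 0) := by
  simp only [chain, map_add, map_sum, pderiv_mul, pderiv_Y_pow, pderiv_Y, map_mul, map_pow, apply_ite (eval v), eval_C,
    eval_Y, map_zero, map_one, Finset.sum_add_distrib, ite_mul, zero_mul, mul_ite, mul_zero, mul_one,
    Finset.sum_ite_eq', Finset.mem_range]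
  congr 1
  · congr 1
    by_cases h0 : 0 < (i : ℕ)
    · rw [if_pos h0, Finset.sum_eq_single ((i : ℕ) - 1) (fun j _ hj => if_neg (by omega))
        (fun h => absurd (Finset.mem_range.2 (by have := i.2; omega)) h), if_pos (by omega)]
    · rw [if_neg h0]
      exact Finset.sum_eq_zero fun j _ => if_neg (by omega)
  · simp only [eq_comm (a := n)]

theorem isSmoothForm_chain {n d : ℕ} (hd : 2 ≤ d) (hd1 : ((d - 1 : ℕ) : k) ≠ 0) : IsSmoothForm (chain (k := k) n d) := by
  intro v hv hv0
  by_contra! hcrit
  apply hv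
  apply eq_zero_of_val
  have D : ∀ i : ℕ, i ≤ n →
      (if i < n then ((d - 1 : ℕ) : k) * val v i ^ (d - 1 - 1) * val v (i + 1) else 0) +
      (if 0 < i then val v (i - 1) ^ (d - 1) else 0) + (if i = n then (d : k) * val v n ^ (d - 1) else 0) = 0 :=
    fun i hi => (eval_pderiv_chain d v ⟨i, by omega⟩).symm.trans (hcrit _)
  simp only [chain, map_add, map_sum, map_mul, map_pow, eval_Y] at hv0
  have hdown : val v n = 0 → 1 ≤ n → val v (n - 1) = 0 := fun hn h1 => by
    have h := D n le_rfl
    rw [if_neg (lt_irrefl n), if_pos (by omega), if_pos rfl, hn, zero_pow (by omega : d - 1 ≠ 0), mul_zero, zero_add,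
      add_zero] at h
    exact pow_eq_zero_iff (by omega : d - 1 ≠ 0) |>.1 h
  by_cases hd2 : d = 2
  · subst hd2
    simp only [show 2 - 1 = 1 from rfl, show 1 - 1 = 0 from rfl, Nat.cast_one, one_mul, pow_zero, pow_one] at D hv0
    have hodd : ∀ j, j % 2 = 1 → j ≤ n → val v j = 0 := by
      intro j
      induction j using Nat.strong_induction_on with
      | _ j ih =>
        intro hj hjn
        have h := D (j - 1) (by omega)
        rw [if_pos (by omega), if_neg (by omega : ¬ j - 1 = n), show j - 1 + 1 = j by omega, add_zero] at h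
        by_cases hj1 : j = 1
        · rwa [if_neg (by omega), add_zero] at h
        · rwa [if_pos (by omega), ih (j - 1 - 1) (by omega) (by omega) (by omega), add_zero] at h
    have hprod : ∀ j ∈ Finset.range n, val v j * val v (j + 1) = 0 := fun j hj => by
      have := Finset.mem_range.1 hj
      rcases Nat.mod_two_eq_zero_or_one j with h | h
      · rw [hodd (j + 1) (by omega) (by omega), mul_zero]
      · rw [hodd j h (by omega), zero_mul]
    rw [Finset.sum_eq_zero hprod, zero_add] at hv0
    have hn : val v n = 0 := pow_eq_zero_iff (by omega : 2 ≠ 0) |>.1 hv0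
    have hall : ∀ e j, j + e = n → val v j = 0 := by
      intro e
      induction e using Nat.strong_induction_on with
      | _ e ih =>
        intro j hj
        match e, hj with
        | 0, hj => rwa [show j = n by omega]
        | 1, hj => rw [show j = n - 1 by omega]; exact hdown hn (by omega)
        | e + 2, hj =>
          have h := D (j + 1) (by omega)
          rw [if_pos (by omega), if_pos (by omega), if_neg (by omega), ih e (by omega) (j + 1 + 1) (by omega),
            zero_add, add_zero, Nat.add_sub_cancel] at h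
          exact h
    exact fun j hj => hall (n - j) j (by omega)
  · have hstep : ∀ j, 1 ≤ j → j ≤ n → val v j = 0 → val v (j - 1) = 0 := fun j h1 hjn hj => by
      by_cases hjn' : j = n
      · subst hjn'; exact hdown hj h1
      · have h := D j hjn
        rw [if_pos (by omega), if_pos (by omega), if_neg hjn', hj, zero_pow (by omega : d - 1 - 1 ≠ 0), mul_zero,
          zero_mul, zero_add, add_zero] at h
        exact pow_eq_zero_iff (by omega : d - 1 ≠ 0) |>.1 h
    intro j hjn
    by_contra hj
    classical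
    have hex : ∃ j, j ≤ n ∧ val v j ≠ 0 := ⟨j, hjn, hj⟩
    let j₀ := Nat.find hex
    obtain ⟨hj₀n, hj₀⟩ := Nat.find_spec hex
    have hlow : ∀ j < j₀, val v j = 0 := fun j hj => by
      by_contra h0
      exact Nat.find_min hex hj ⟨by omega, h0⟩
    have hhigh : ∀ e, j₀ + e ≤ n → val v (j₀ + e) ≠ 0 := fun e => by
      induction e with
      | zero => exact fun _ => hj₀
      | succ e ih => exact fun he h0 => ih (by omega) (by simpa using hstep (j₀ + (e + 1)) (by omega) he h0)
    by_cases hjn₀ : j₀ = n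
    · refine hj₀ ?_
      show val v j₀ = 0
      rw [Finset.sum_eq_zero (fun j hj => by
        rw [hlow j (by have := Finset.mem_range.1 hj; omega), zero_pow (by omega), zero_mul]), zero_add] at hv0
      rw [hjn₀]
      exact pow_eq_zero_iff (by omega : d ≠ 0) |>.1 hv0
    · have hlt : j₀ < n := lt_of_le_of_ne hj₀n hjn₀
      have h := D j₀ hj₀n
      rw [if_pos hlt, if_neg hjn₀, add_zero] at h
      by_cases h0 : 0 < j₀
      · rw [if_pos h0, hlow (j₀ - 1) (by omega), zero_pow (by omega : d - 1 ≠ 0), add_zero] at h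
        exact mul_ne_zero (mul_ne_zero hd1 (pow_ne_zero _ hj₀)) (hhigh 1 hlt) h
      · rw [if_neg h0, add_zero] at h
        exact mul_ne_zero (mul_ne_zero hd1 (pow_ne_zero _ hj₀)) (hhigh 1 hlt) h

theorem isSmoothForm_pairs {n m d : ℕ} (hd : 2 ≤ d) (hm : 2 * m ≤ n + 1) (hd1 : ((d - 1 : ℕ) : k) = 0) :
    IsSmoothForm (pairs (k := k) n m d) := by
  intro v hv _
  by_contra! hcrit
  apply hv
  apply eq_zero_of_val
  have hdk : (d : k) = 1 := by
    rw [show d = (d - 1) + 1 by omega, Nat.cast_add, hd1, Nat.cast_one, zero_add]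
  have key : ∀ i : Fin (n + 1), eval v (pderiv i (pairs n m d)) =
      (∑ j ∈ Finset.range m, ((if 2 * j + 1 = (i : ℕ) then val v (2 * j) ^ (d - 1) else 0) +
        (if 2 * j = (i : ℕ) then val v (2 * j + 1) ^ (d - 1) else 0))) +
      ∑ j ∈ Finset.Ico (2 * m) (n + 1), (if j = (i : ℕ) then val v j ^ (d - 1) else 0) := fun i => by
    simp only [pairs, map_add, map_sum, pderiv_mul, pderiv_Y_pow, pderiv_Y, map_mul, map_pow, apply_ite (eval v),
      eval_C, eval_Y, map_zero, map_one, hd1, hdk, zero_mul, mul_zero, ite_self, zero_add, add_zero, one_mul,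
      ite_mul, mul_ite, mul_one]
  intro i hi
  have hd0 : d - 1 ≠ 0 := by omega
  by_cases him : i < 2 * m
  · rcases Nat.mod_two_eq_zero_or_one i with h2 | h2
    · have hp : i + 1 ≤ n := by omega
      have h := (key ⟨i + 1, by omega⟩).symm.trans (hcrit _)
      rw [Finset.sum_eq_single (i / 2) (fun j _ hj => by rw [if_neg (by simp only; omega), if_neg (by simp only; omega), add_zero])
          (fun h => absurd (Finset.mem_range.2 (by omega)) h),
        Finset.sum_eq_zero (fun j hj => if_neg (by have := (Finset.mem_Ico.1 hj).1; simp only; omega)),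
        if_pos (by simp only; omega), if_neg (by simp only; omega), add_zero, add_zero, show 2 * (i / 2) = i by omega] at h
      exact pow_eq_zero_iff hd0 |>.1 h
    · have h := (key ⟨i - 1, by omega⟩).symm.trans (hcrit _)
      rw [Finset.sum_eq_single (i / 2) (fun j _ hj => by rw [if_neg (by simp only; omega), if_neg (by simp only; omega), add_zero])
          (fun h => absurd (Finset.mem_range.2 (by omega)) h),
        Finset.sum_eq_zero (fun j hj => if_neg (by have := (Finset.mem_Ico.1 hj).1; simp only; omega)),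
        if_neg (by simp only; omega), if_pos (by simp only; omega), zero_add, add_zero,
        show 2 * (i / 2) + 1 = i by omega] at h
      exact pow_eq_zero_iff hd0 |>.1 h
  · have h := (key ⟨i, by omega⟩).symm.trans (hcrit _)
    rw [Finset.sum_eq_zero (fun j hj => by
        have := Finset.mem_range.1 hj
        rw [if_neg (by simp only; omega), if_neg (by simp only; omega), add_zero]),
      zero_add, Finset.sum_eq_single i (fun j _ hj => if_neg (by simpa using hj))
        (fun h => absurd (Finset.mem_Ico.2 ⟨by omega, by omega⟩) h), if_pos rfl] at h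
    exact pow_eq_zero_iff hd0 |>.1 h

theorem exists_equiv {n m : ℕ} (U : Submodule k (Fin (n + 1) → k)) (hU : Module.finrank k ↥U = m)
    (hm : 2 * m ≤ n + 1) : ∃ T : (Fin (n + 1) → k) ≃ₗ[k] (Fin (n + 1) → k), ∀ u ∈ U, OnSub m (T u) := by
  let ι : (Fin m → k) →ₗ[k] (Fin (n + 1) → k) :=
    { toFun := fun c i => if h : (i : ℕ) % 2 = 0 ∧ (i : ℕ) < 2 * m then c ⟨(i : ℕ) / 2, by omega⟩ else 0
      map_add' := fun a b => by funext i; simp only [Pi.add_apply]; split <;> simp
      map_smul' := fun a b => by funext i; simp only [Pi.smul_apply, RingHom.id_apply]; split <;> simp }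
  have hι : Function.Injective ι := fun a b h => funext fun j => by
    have := congrFun h ⟨2 * (j : ℕ), by omega⟩
    simp only [ι, LinearMap.coe_mk, AddHom.coe_mk] at this
    rw [dif_pos ⟨by omega, by omega⟩, dif_pos ⟨by omega, by omega⟩] at this
    simpa [show 2 * (j : ℕ) / 2 = (j : ℕ) by omega] using this
  have hV : Module.finrank k ↥ι.range = Module.finrank k ↥U := by
    rw [LinearMap.finrank_range_of_inj hι, Module.finrank_fin_fun, hU]
  obtain ⟨C, hC⟩ := U.exists_isCompl
  obtain ⟨C', hC'⟩ := ι.range.exists_isCompl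
  have hCC : Module.finrank k ↥C = Module.finrank k ↥C' := by
    have h1 := Submodule.finrank_add_eq_of_isCompl hC
    have h2 := Submodule.finrank_add_eq_of_isCompl hC'
    omega
  let T : (Fin (n + 1) → k) ≃ₗ[k] (Fin (n + 1) → k) := (U.prodEquivOfIsCompl C hC).symm ≪≫ₗ
    (LinearEquiv.ofFinrankEq ↥U ↥ι.range hV.symm).prodCongr (LinearEquiv.ofFinrankEq ↥C ↥C' hCC) ≪≫ₗ
    (ι.range.prodEquivOfIsCompl C' hC')
  refine ⟨T, fun u hu j hj => ?_⟩
  obtain ⟨c, hc⟩ : T u ∈ ι.range := by
    simp only [T, LinearEquiv.trans_apply]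
    rw [show (U.prodEquivOfIsCompl C hC).symm u = (⟨u, hu⟩, 0) from
      Submodule.prodEquivOfIsCompl_symm_apply_left U C hC ⟨u, hu⟩]
    simp [Submodule.coe_prodEquivOfIsCompl']
  unfold val
  split
  · rw [← hc]
    simp only [ι, LinearMap.coe_mk, AddHom.coe_mk]
    rw [dif_neg (by omega)]
  · rfl

/-- A smooth form of degree `d` vanishing on `U`. -/
theorem exists_smooth {n d : ℕ} (hd : 2 ≤ d) (U : Submodule k (Fin (n + 1) → k))
    (hU : 2 * Module.finrank k ↥U ≤ n + 1) :
    ∃ G : MvPolynomial (Fin (n + 1)) k, G.IsHomogeneous d ∧ (∀ u ∈ U, eval u G = 0) ∧ IsSmoothForm G := by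
  obtain ⟨T, hT⟩ := exists_equiv U rfl hU
  obtain ⟨F, hF, hFU, hFs⟩ : ∃ F : MvPolynomial (Fin (n + 1)) k, F.IsHomogeneous d ∧
      (∀ v, OnSub (Module.finrank k ↥U) v → eval v F = 0) ∧ IsSmoothForm F := by
    by_cases h : ((d - 1 : ℕ) : k) = 0
    · exact ⟨_, isHomogeneous_pairs n _ (by omega), fun v hv => eval_pairs_of_onSub hd hv, isSmoothForm_pairs hd hU h⟩
    · exact ⟨_, isHomogeneous_chain n (by omega), fun v hv => eval_chain_of_onSub hd hU hv, isSmoothForm_chain hd h⟩
  let M := LinearMap.toMatrix' (T : (Fin (n + 1) → k) →ₗ[k] (Fin (n + 1) → k))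
  have hM : ∀ w, M.mulVec w = T w := fun w => LinearMap.toMatrix'_mulVec _ w
  refine ⟨SmoothFormLib.linSub M F, SmoothFormLib.isHomogeneous_linSub M hF,
    fun u hu => by rw [SmoothFormLib.eval_linSub, hM]; exact hFU _ (hT u hu), fun v hv hv0 => ?_⟩
  rw [SmoothFormLib.eval_linSub, hM] at hv0
  obtain ⟨i, hi⟩ := hFs (T v) (fun h => hv (T.map_eq_zero_iff.1 h)) hv0
  by_contra! hcrit
  refine hi ?_
  have hvec : Matrix.vecMul (fun i => eval (T v) (pderiv i F)) M = 0 := funext fun j => by
    refine Eq.trans ?_ (hcrit j)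
    rw [FormsSLLib.grad_linSub, hM]
    rfl
  have hdet : M.det ≠ 0 := by
    rw [LinearMap.det_toMatrix']
    exact T.isUnit_det'.ne_zero
  exact congrFun (Matrix.eq_zero_of_vecMul_eq_zero hdet hvec) i

end Groth.Agent.SmoothGeneric
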