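import Mathlib.RingTheory.Nullstellensatz
import Mathlib.RingTheory.MvPolynomial.Homogeneous
import Mathlib.LinearAlgebra.Matrix.NonsingularInverse
import Groth.Agent.H9LefPen.Closed
import Groth.Agent.SmoothFormLib.Forms
import Groth.Agent.FormsSLLib.Singular

/-!
# In a linear system of forms with one smooth member the general member is smooth
-/

set_option autoImplicit false
set_option linter.style.haveILetI false
set_option backward.isDefEq.respectTransparency false
set_option backward.isDefEq.respectTransparency.types false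
set_option maxHeartbeats 1000000

universe u

open MvPolynomial

noncomputable section

namespace Groth.Agent.SmoothGeneric

variable {k : Type u} [Field k] {n : ℕ}

/-- The polynomial is smooth away from the origin. -/
def IsSmoothForm (F : MvPolynomial (Fin (n + 1)) k) : Prop :=
  ∀ v : Fin (n + 1) → k, v ≠ 0 → eval v F = 0 → ∃ i, eval v (pderiv i F) ≠ 0

/-- A polynomial and its partial derivatives. -/
def eqs (F : MvPolynomial (Fin (n + 1)) k) : Option (Fin (n + 1)) → MvPolynomial (Fin (n + 1)) k :=
  fun o => o.elim F fun i => pderiv i F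

theorem eval_smul_point {F : MvPolynomial (Fin (n + 1)) k} {e : ℕ} (hF : F.IsHomogeneous e) (t : k)
    (v : Fin (n + 1) → k) : eval (t • v) F = t ^ e * eval v F := by
  rw [eval_eq', eval_eq', Finset.mul_sum]
  refine Finset.sum_congr rfl fun α hα => ?_
  have hdeg : ∑ i, α i = e := by
    have := hF (mem_support_iff.1 hα)
    simpa [Finsupp.weight_apply, Finsupp.sum_fintype] using this
  simp only [Pi.smul_apply, smul_eq_mul, mul_pow, Finset.prod_mul_distrib, Finset.prod_pow_eq_pow_sum, hdeg]
  ring

/-- A polynomial vanishing on a line through the origin has all its components vanishing there. -/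
theorem eval_component_eq_zero [Infinite k] (p : MvPolynomial (Fin (n + 1)) k) (v : Fin (n + 1) → k)
    (h : ∀ t : k, eval (t • v) p = 0) (N : ℕ) : eval v (homogeneousComponent N p) = 0 := by
  by_cases hN : N < p.totalDegree + 1
  · let q : Polynomial k := ∑ i ∈ Finset.range (p.totalDegree + 1),
      Polynomial.monomial i (eval v (homogeneousComponent i p))
    have hq : q = 0 := Polynomial.funext fun t => by
      simp only [q, Polynomial.eval_finsetSum, Polynomial.eval_monomial, Polynomial.eval_zero]
      rw [← h t]
      conv_rhs => rw [← sum_homogeneousComponent (φ := p), map_sum]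
      refine Finset.sum_congr rfl fun i _ => ?_
      rw [eval_smul_point (homogeneousComponent_isHomogeneous i p), mul_comm]
    have := congrArg (fun r => Polynomial.coeff r N) hq
    simp only [q, Polynomial.finsetSum_coeff, Polynomial.coeff_monomial, Polynomial.coeff_zero] at this
    rwa [Finset.sum_eq_single N (fun i _ hi => if_neg hi) (fun h => absurd (Finset.mem_range.2 hN) h),
      if_pos rfl] at this
  · rw [homogeneousComponent_eq_zero _ _ (by omega), map_zero]

/-- A smooth form and its derivatives generate all forms of high degree. -/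
theorem exists_degree [IsAlgClosed k] {F : MvPolynomial (Fin (n + 1)) k} (hF : IsSmoothForm F) :
    ∃ N : ℕ, 0 < N ∧ ∀ p : MvPolynomial (Fin (n + 1)) k, p.IsHomogeneous N →
      ∃ a : Option (Fin (n + 1)) → MvPolynomial (Fin (n + 1)) k, homogeneousComponent N (∑ o, a o * eqs F o) = p := by
  classical
  let J : Ideal (MvPolynomial (Fin (n + 1)) k) := Ideal.span (Set.range (eqs F))
  have hrad : ∀ i, X i ∈ J.radical := fun i => by
    rw [← vanishingIdeal_zeroLocus_eq_radical (K := k) J]
    intro v hv
    have hv' : ∀ o, eval v (eqs F o) = 0 := fun o => by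
      simpa [aeval_def, eval₂_id] using hv (eqs F o) (Ideal.subset_span ⟨o, rfl⟩)
    by_cases h0 : v = 0
    · simp [h0]
    · obtain ⟨j, hj⟩ := hF v h0 (hv' none)
      exact absurd (hv' (some j)) hj
  choose e he using fun i => Ideal.mem_radical_iff.1 (hrad i)
  refine ⟨(∑ i, e i) + 1, Nat.succ_pos _, fun p hp => ?_⟩
  have hpJ : p ∈ J := by
    rw [p.as_sum]
    refine Ideal.sum_mem _ fun α hα => ?_
    have hdeg : ∑ i, α i = (∑ i, e i) + 1 := by
      have := hp (mem_support_iff.1 hα)
      simpa [Finsupp.weight_apply, Finsupp.sum_fintype] using this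
    obtain ⟨i, hi⟩ : ∃ i, e i ≤ α i := by
      by_contra! hlt
      have : ∑ i, α i ≤ ∑ i, e i := Finset.sum_le_sum fun i _ => (hlt i).le
      omega
    have hdvd : monomial α (coeff α p) = X i ^ e i * monomial (α - Finsupp.single i (e i)) (coeff α p) := by
      rw [X_pow_eq_monomial, monomial_mul, one_mul, add_tsub_cancel_of_le (Finsupp.single_le_iff.2 hi)]
    rw [hdvd]
    exact Ideal.mul_mem_right _ _ (he i)
  obtain ⟨a, ha⟩ := (Submodule.mem_span_range_iff_exists_fun _).1 hpJ
  refine ⟨a, ?_⟩
  have ha' : ∑ o, a o * eqs F o = p := ha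
  rw [ha', homogeneousComponent_of_mem (n := (∑ i, e i) + 1) hp, if_pos rfl]

theorem isHomogeneous_eqs {F : MvPolynomial (Fin (n + 1)) k} {d : ℕ} (hF : F.IsHomogeneous (d + 1)) :
    ∀ o, ∃ e, (eqs F o).IsHomogeneous e
  | none => ⟨d + 1, hF⟩
  | some i => ⟨d, FormsSLLib.isHomogeneous_pderiv hF i⟩

/-- If a linear system contains a smooth form, its general member is smooth. -/
theorem isGeneric [IsAlgClosed k] {d : ℕ} (W : Submodule k (LefPen.Form n k (d + 1))) (G₀ : ↥W)
    (h₀ : IsSmoothForm G₀.1.1) : LefPen.IsGeneric k {G : ↥W | IsSmoothForm G.1.1} := by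
  classical
  obtain ⟨N, hN0, hN⟩ := exists_degree h₀
  haveI := H9LefPen.finite_form (k := k) (r := n) N
  let b := Module.finBasis k (LefPen.Form n k N)
  choose a ha using fun l => hN (b l).1 (b l).2
  let E : Option (Fin (n + 1)) → ↥W →ₗ[k] MvPolynomial (Fin (n + 1)) k := fun o =>
    o.elim ((Submodule.subtype _).comp W.subtype) fun i => (pderiv i).toLinearMap.comp ((Submodule.subtype _).comp W.subtype)
  have hE : ∀ o G, E o G = eqs G.1.1 o := fun o G => by cases o <;> rfl
  let T : Fin (Module.finrank k (LefPen.Form n k N)) → ↥W →ₗ[k] LefPen.Form n k N := fun l =>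
    LinearMap.codRestrict _ ((homogeneousComponent N).comp (∑ o, (LinearMap.mulLeft k (a l o)).comp (E o)))
      fun G => homogeneousComponent_isHomogeneous N _
  have hT : ∀ l G, (T l G).1 = homogeneousComponent N (∑ o, a l o * eqs G.1.1 o) := fun l G => by
    simp [T, hE, LinearMap.sum_apply]
  let S := Algebra.adjoin k (Set.range (fun φ : Module.Dual k ↥W => (φ : ↥W → k)))
  let M : Matrix (Fin (Module.finrank k (LefPen.Form n k N))) (Fin (Module.finrank k (LefPen.Form n k N))) S :=
    Matrix.of fun l l' => ⟨_, Algebra.subset_adjoin ⟨(b.coord l').comp (T l), rfl⟩⟩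
  let evG : ↥W → (S →+* k) := fun G => (Pi.evalRingHom (fun _ : ↥W => k) G).comp S.val.toRingHom
  have hdet : ∀ G, (M.det : ↥W → k) G = (Matrix.of fun l l' => b.repr (T l G) l').det := fun G =>
    RingHom.map_det (evG G) M
  refine ⟨(M.det : ↥W → k), M.det.2, ⟨G₀, ?_⟩, fun G hG => ?_⟩
  · have h1 : (Matrix.of fun l l' => b.repr (T l G₀) l') = 1 := by
      ext l l'
      rw [Matrix.of_apply, show T l G₀ = b l from Subtype.ext ((hT l G₀).trans (ha l)), b.repr_self,
        Finsupp.single_apply, Matrix.one_apply]
    rw [hdet, h1, Matrix.det_one]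
    exact one_ne_zero
  · intro v hv hv0
    by_contra! hcrit
    have hz : ∀ o, eval v (eqs G.1.1 o) = 0 := fun o => by cases o; exacts [hv0, hcrit _]
    have hTv : ∀ l, eval v (T l G).1 = 0 := fun l => by
      rw [hT]
      refine eval_component_eq_zero _ v (fun t => ?_) N
      rw [map_sum]
      refine Finset.sum_eq_zero fun o _ => ?_
      obtain ⟨e, he⟩ := isHomogeneous_eqs (show G.1.1.IsHomogeneous (d + 1) from G.1.2) o
      rw [map_mul, eval_smul_point he, hz, mul_zero, mul_zero]
    rw [hdet] at hG
    let φ : LefPen.Form n k N →ₗ[k] k := (aeval v).toLinearMap.comp (Submodule.subtype _)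
    have hφ : ∀ q : LefPen.Form n k N, φ q = eval v q.1 := fun q => by
      show aeval v q.1 = eval v q.1
      simp [aeval_def, eval₂_id]
    have hb : ∀ l, φ (b l) = 0 := by
      have hmul : (Matrix.of fun l l' => b.repr (T l G) l').mulVec (fun l' => φ (b l')) = 0 := by
        funext l
        show ∑ l', b.repr (T l G) l' * φ (b l') = 0
        rw [← hTv l, ← hφ]
        conv_rhs => rw [← b.sum_repr (T l G), map_sum]
        exact Finset.sum_congr rfl fun l' _ => by rw [map_smul, smul_eq_mul]
      exact congrFun (Matrix.eq_zero_of_mulVec_eq_zero hG hmul)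
    obtain ⟨i, hi⟩ := Function.ne_iff.1 hv
    have hx : (X i ^ N : MvPolynomial (Fin (n + 1)) k).IsHomogeneous N := by
      simpa using (isHomogeneous_X k i).pow N
    have : φ ⟨_, hx⟩ = 0 := by
      rw [← b.sum_repr ⟨_, hx⟩, map_sum]
      exact Finset.sum_eq_zero fun l _ => by rw [map_smul, hb, smul_zero]
    rw [hφ] at this
    simp at this
    exact hi this.1

end Groth.Agent.SmoothGeneric
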